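import Cfsg.Agent.KFacts.MulRu.Near

/-! The order of `⟨t, s, w, f, d⟩` is at most `349440` (`RuD/HBound`, with the relations of `H` only). -/

set_option autoImplicit false
set_option maxRecDepth 100000

namespace Cfsg.Agent.KFacts.MulRu.HBound

open Subgroup Cfsg.Agent.SporRec.TCUpperCert Cfsg.Agent.RuD Cfsg.Agent.KFacts.MulRu.Near

variable {G : Type*} [Group G] {t s w f d y : G}

/-- the relations without `last`, `xt` -/
structure HRels {G : Type*} [Group G] (t s w f d y : G) : Prop extends Base t s w f d y where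
  h2 : f⁻¹ * s⁻¹ * s⁻¹ * f * s⁻¹ * f⁻¹ * s⁻¹ * s⁻¹ * f * s = 1
  h3 : f⁻¹ * s⁻¹ * f * s⁻¹ * s⁻¹ * f⁻¹ * s * f * s⁻¹ * s⁻¹ = 1

theorem index_B (h : HRels t s w f d y) :
    (zpowers f).relIndex (closure {s, f}) ≤ 64 ∧ (zpowers f).relIndex (closure {s, f}) ≠ 0 := by
  have h0 := h.s4
  have h2 := h.f7
  have h5 := h.h1
  have h6 := h.h2
  have h7 := h.h3
  refine relIndex_le_of_valid [s, s⁻¹, f, f⁻¹] TCB.inv TCB.lab TCB.fxl TCB.rels TCB.valid TCB.tt_ok ?_ ?_ _ ?_ _ ?_
  · intro a ha
    change a < 4 at ha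
    interval_cases a
    · exact mul_inv_cancel s
    · exact inv_mul_cancel s
    · exact mul_inv_cancel f
    · exact inv_mul_cancel f
  · simp only [TCB.rels, List.forall_mem_cons, List.not_mem_nil, false_imp_iff, implies_true, and_true, wprod, lv,
      List.map_cons, List.map_nil, List.prod_cons, List.prod_nil, mul_one, List.getD_cons_zero, List.getD_cons_succ]
    simp only [mul_assoc] at *
    exact ⟨h0, h2, h5, h6, h7⟩
  · intro a ha
    simp only [TCB.fxl, List.mem_cons, List.not_mem_nil, or_false] at ha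
    subst ha
    exact mem_zpowers f
  · intro x hx
    rcases hx with rfl | rfl
    · exact ⟨0, by norm_num, rfl⟩
    · exact ⟨2, by norm_num, rfl⟩

theorem index_L (h : HRels t s w f d y) :
    (closure {s, f}).relIndex (closure {s, w, f}) ≤ 65 ∧ (closure {s, f}).relIndex (closure {s, w, f}) ≠ 0 := by
  have h0 := h.s4
  have h1 := h.w2
  have h2 := h.f7
  have h3 := h.wf
  have h4 := h.ws
  have h5 := h.h1
  have h6 := h.h2
  have h7 := h.h3
  refine relIndex_le_of_valid [s, s⁻¹, w, f, f⁻¹] TCL.inv TCL.lab TCL.fxl TCL.rels TCL.valid TCL.tt_ok ?_ ?_ _ ?_ _ ?_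
  · intro a ha
    change a < 5 at ha
    interval_cases a
    · exact mul_inv_cancel s
    · exact inv_mul_cancel s
    · exact h1
    · exact mul_inv_cancel f
    · exact inv_mul_cancel f
  · simp only [TCL.rels, List.forall_mem_cons, List.not_mem_nil, false_imp_iff, implies_true, and_true, wprod, lv,
      List.map_cons, List.map_nil, List.prod_cons, List.prod_nil, mul_one, List.getD_cons_zero, List.getD_cons_succ]
    simp only [mul_assoc] at *
    exact ⟨h0, h1, h2, h3, h4, h5, h6, h7⟩
  · intro a ha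
    simp only [TCL.fxl, List.mem_cons, List.not_mem_nil, or_false] at ha
    rcases ha with rfl | rfl
    · exact subset_closure (by simp [lv])
    · exact subset_closure (by simp [lv])
  · intro x hx
    rcases hx with rfl | rfl | rfl
    · exact ⟨0, by norm_num, rfl⟩
    · exact ⟨2, by norm_num, rfl⟩
    · exact ⟨3, by norm_num, rfl⟩

theorem index_H (h : HRels t s w f d y) :
    (closure {s, w, f}).relIndex (closure {t, s, w, f, d}) ≤ 12 ∧
      (closure {s, w, f}).relIndex (closure {t, s, w, f, d}) ≠ 0 := by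
  have h0 := h.s4
  have h1 := h.w2
  have h2 := h.f7
  have h3 := h.wf
  have h4 := h.ws
  have h5 := h.h1
  have h6 := h.h2
  have h7 := h.h3
  have h8 := h.t2
  have h9 := h.d3
  have h10 := h.td
  have h11 := h.ds
  have h12 := h.dw
  have h13 := h.df
  have h14 := h.ts
  have h15 := h.tw
  have h16 := h.tf
  refine relIndex_le_of_valid [t, s, s⁻¹, w, f, f⁻¹, d, d⁻¹] TCH.inv TCH.lab TCH.fxl TCH.rels TCH.valid TCH.tt_ok
    ?_ ?_ _ ?_ _ ?_
  · intro a ha
    change a < 8 at ha
    interval_cases a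
    · exact h8
    · exact mul_inv_cancel s
    · exact inv_mul_cancel s
    · exact h1
    · exact mul_inv_cancel f
    · exact inv_mul_cancel f
    · exact mul_inv_cancel d
    · exact inv_mul_cancel d
  · simp only [TCH.rels, List.forall_mem_cons, List.not_mem_nil, false_imp_iff, implies_true, and_true, wprod, lv,
      List.map_cons, List.map_nil, List.prod_cons, List.prod_nil, mul_one, List.getD_cons_zero, List.getD_cons_succ]
    simp only [mul_assoc] at *
    exact ⟨h0, h1, h2, h3, h4, h5, h6, h7, h8, h9, h10, h11, h12, h13, h14, h15, h16⟩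
  · intro a ha
    simp only [TCH.fxl, List.mem_cons, List.not_mem_nil, or_false] at ha
    rcases ha with rfl | rfl | rfl
    · exact subset_closure (by simp [lv])
    · exact subset_closure (by simp [lv])
    · exact subset_closure (by simp [lv])
  · intro x hx
    rcases hx with rfl | rfl | rfl | rfl | rfl
    · exact ⟨0, by norm_num, rfl⟩
    · exact ⟨1, by norm_num, rfl⟩
    · exact ⟨3, by norm_num, rfl⟩
    · exact ⟨4, by norm_num, rfl⟩
    · exact ⟨6, by norm_num, rfl⟩

theorem card_f (h : HRels t s w f d y) : Nat.card (zpowers f) ≤ 7 ∧ Nat.card (zpowers f) ≠ 0 := by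
  have h7 : f ^ 7 = 1 := by
    rw [← h.f7]; simp only [pow_succ, pow_zero, one_mul]
  have hd : orderOf f ∣ 7 := orderOf_dvd_of_pow_eq_one h7
  rw [Nat.card_zpowers]
  refine ⟨Nat.le_of_dvd (by norm_num) hd, fun h0 => ?_⟩
  rw [h0] at hd
  omega

/-- **the bound** -/
theorem card_H (h : HRels t s w f d y) :
    Nat.card (closure ({t, s, w, f, d} : Set G)) ≤ 349440 ∧ Nat.card (closure ({t, s, w, f, d} : Set G)) ≠ 0 := by
  have hB := index_B h
  have hL := index_L h
  have hH := index_H h
  have hf := card_f h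
  have l1 : zpowers f ≤ closure {s, f} := by
    rw [zpowers_le]; exact subset_closure (by simp)
  have l2 : closure {s, f} ≤ closure {s, w, f} := closure_mono (by
    intro x hx; rcases hx with rfl | rfl <;> simp)
  have l3 : closure {s, w, f} ≤ closure ({t, s, w, f, d} : Set G) := closure_mono (by
    intro x hx; rcases hx with rfl | rfl | rfl <;> simp)
  have e1 := relIndex_mul_relIndex _ _ _ (bot_le : ⊥ ≤ zpowers f) l1
  have e2 := relIndex_mul_relIndex _ _ _ (bot_le : ⊥ ≤ closure {s, f}) l2
  have e3 := relIndex_mul_relIndex _ _ _ (bot_le : ⊥ ≤ closure {s, w, f}) l3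
  rw [relIndex_bot_left, relIndex_bot_left] at e1 e2 e3
  rw [← e3, ← e2, ← e1]
  constructor
  · calc _ ≤ 7 * 64 * 65 * 12 := Nat.mul_le_mul (Nat.mul_le_mul (Nat.mul_le_mul hf.1 hB.1) hL.1) hH.1
      _ = 349440 := by norm_num
  · exact mul_ne_zero (mul_ne_zero (mul_ne_zero hf.2 hB.2) hL.2) hH.2

end Cfsg.Agent.KFacts.MulRu.HBound
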