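import Cfsg.Agent.KFacts.MulRu.Sz10Chk0

set_option autoImplicit false
set_option maxRecDepth 100000

namespace Cfsg.Agent.KFacts.MulRu.Sz10

open Cfsg.Agent.SporadicRecognition.CosetCert Cfsg.Agent.Lib.CosetPartial Cfsg.Agent.KFacts.MulRu.Sz10Data

theorem part : PartP C 0 C.N := Cfsg.Agent.KFacts.MulRu.Sz10Chk0.all

/-- every target word lies in `H` as soon as the relators hold and the subgroup words lie in `H` -/
theorem mem {G : Type*} [Group G] (H : Subgroup G) (g : Nat → G)
    (hinv : ∀ x, x < 8 → g x * g (C.inv x) = 1)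
    (hrel : ∀ r ∈ rels, ev g r = 1) (hsub : ∀ s ∈ subw, ev g s ∈ H) :
    ∀ w ∈ targets, ev g w ∈ H :=
  mem_of_checks C H g rels subw targets (by decide +kernel) hinv hrel hsub part (by decide +kernel)

end Cfsg.Agent.KFacts.MulRu.Sz10
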