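import Cfsg.Agent.KFacts.MulRu.HBound
import Cfsg.Agent.KFacts.MulRu.Sz10
import Cfsg.Agent.KFacts.MulRu.Sz01
import Cfsg.Agent.KFacts.MulRu.Sz11
import Cfsg.Agent.KFacts.MulRu.R01
import Cfsg.Agent.KFacts.MulRu.R11
import Cfsg.Agent.KFacts.MulRu.CertA
import Cfsg.Agent.KFacts.MulBaer

/-!
# The multiplier of the Rudvalis group: its 2-part is at most 2

`X` is a group of order `145926144000` generated by letters satisfying `RuRelsX`. In every perfect double cover of `X`
the lifts of the commuting involutions `T`, `D⁻¹ T D` do not commute (`comm_eq`), lifts of `T` have order 4 (`sq_t`),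
lifts of `S * S` are involutions (`sq_e`).
-/

set_option autoImplicit false
set_option maxRecDepth 100000
set_option linter.unusedSectionVars false

namespace Cfsg.Agent.KFacts.MulRu.Main

open Subgroup Cfsg.Agent.KFacts.MulTwo Cfsg.Agent.KFacts.MulDef Cfsg.Agent.KFacts.MulSpor.Class
open Cfsg.Agent.SporadicRecognition.CosetCert Cfsg.Agent.KFacts.MulRu.Sign Cfsg.Agent.KFacts.MulRu.Near
open Cfsg.Agent.KFacts.MulRu.HBound Cfsg.Agent.RuD.Rels
open scoped commutatorElement

section cert

variable {L : Type*} [Group L] {c t s w f d y : L}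

/-- the letters of the certificates `Sz*` -/
def gs (c s w f d : L) : ℕ → L
  | 0 => s
  | 1 => s⁻¹
  | 2 => w
  | 3 => f
  | 4 => f⁻¹
  | 5 => d
  | 6 => d⁻¹
  | 7 => c
  | _ => 1

/-- the letters of the certificates `R*` -/
def gr (c t s w f d y : L) : ℕ → L
  | 0 => t
  | 1 => s
  | 2 => s⁻¹
  | 3 => w
  | 4 => f
  | 5 => f⁻¹
  | 6 => d
  | 7 => d⁻¹
  | 8 => y
  | 9 => c
  | _ => 1

theorem comm4 (hc : ∀ x : L, c * x = x * c) (hcc : c * c = 1) (x : L) : x * (c * (x⁻¹ * c)) = 1 := by
  rw [← mul_assoc c, hc x⁻¹, mul_assoc x⁻¹, hcc, mul_one, mul_inv_cancel]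

theorem comm4' (hc : ∀ x : L, c * x = x * c) (hcc : c * c = 1) {x : L} (hx : x * x = 1) :
    x * (c * (x * c)) = 1 := by
  rw [← mul_assoc c, hc x, mul_assoc x, hcc, mul_one, hx]

theorem c_eq_one (hcc : c * c = 1) (hf : f * f * f * f * f * f * f = 1) (h : c ∈ zpowers f) : c = 1 := by
  obtain ⟨k, hk⟩ := mem_zpowers_iff.1 h
  have h7 : f ^ (7 : ℤ) = 1 := by
    rw [← hf]
    have : f ^ (7 : ℤ) = f ^ (7 : ℕ) := zpow_natCast f 7
    rw [this]
    simp only [pow_succ, pow_zero, one_mul]
  have h1 : c ^ 7 = 1 := by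
    have : c ^ (7 : ℤ) = 1 := by rw [← hk, ← zpow_mul, mul_comm, zpow_mul, h7, one_zpow]
    rw [← this]
    exact (zpow_natCast c 7).symm
  calc c = c * (c * c) * (c * c) * (c * c) := by rw [hcc]; group
    _ = c ^ 7 := by simp only [pow_succ, pow_zero, one_mul, mul_assoc]
    _ = 1 := h1

/-- the relators `h2`, `h3` are exact -/
theorem exact_h (hc : ∀ x : L, c * x = x * c) (hcc : c * c = 1) (h1 : c ≠ 1) (N : Near c t s w f d y) :
    HRels t s w f d y := by
  have k1 := N.s4
  have k2 := N.w2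
  have k3 := N.f7
  have k4 := N.wf
  have k5 := N.ws
  have k6 := N.h1
  have k7 := N.d3
  have k8 := N.ds
  have k9 := N.dw
  have k10 := N.df
  have e1 := comm4 hc hcc s
  have e2 := comm4' hc hcc k2
  have e3 := comm4 hc hcc f
  have e4 := comm4 hc hcc d
  have m2 := N.h2
  have m3 := N.h3
  have fin : ∀ x, x ∈ zpowers f → x = c → False := by
    rintro x hx rfl
    exact h1 (c_eq_one hcc N.f7 hx)
  rcases m2 with m2 | m2 <;> rcases m3 with m3 | m3
  · exact { toBase := N.toBase, h2 := m2, h3 := m3 }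
  · exfalso
    have m3' : f⁻¹ * s⁻¹ * f * s⁻¹ * s⁻¹ * f⁻¹ * s * f * s⁻¹ * s⁻¹ * c = 1 := by rw [m3, hcc]
    refine fin _ (Sz01.mem (zpowers f) (gs c s w f d) ?_ ?_ ?_ [7] (by simp [Sz01Data.targets])) ?_
    · intro x hx
      interval_cases x
      · exact mul_inv_cancel s
      · exact inv_mul_cancel s
      · exact k2
      · exact mul_inv_cancel f
      · exact inv_mul_cancel f
      · exact mul_inv_cancel d
      · exact inv_mul_cancel d
      · exact hcc
    · simp only [Sz01Data.rels, List.forall_mem_cons, List.not_mem_nil, false_imp_iff, implies_true, and_true, ev,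
        List.map_cons, List.map_nil, List.prod_cons, List.prod_nil, mul_one, gs]
      simp only [mul_assoc] at k1 k2 k3 k4 k5 k6 k7 k8 k9 k10 m2 m3' e1 e2 e3 e4 ⊢
      exact ⟨k7, k1, k4, k8, k9, e1, e2, e3, e4, k3, k5, k10, k6, m2, m3'⟩
    · intro u hu
      simp only [Sz01Data.subw, List.mem_cons, List.not_mem_nil, or_false] at hu
      subst hu
      simp only [ev, List.map_cons, List.map_nil, List.prod_cons, List.prod_nil, mul_one, gs]
      exact mem_zpowers f
    · simp only [ev, List.map_cons, List.map_nil, List.prod_cons, List.prod_nil, mul_one, gs]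
  · exfalso
    have m2' : f⁻¹ * s⁻¹ * s⁻¹ * f * s⁻¹ * f⁻¹ * s⁻¹ * s⁻¹ * f * s * c = 1 := by rw [m2, hcc]
    refine fin _ (Sz10.mem (zpowers f) (gs c s w f d) ?_ ?_ ?_ [7] (by simp [Sz10Data.targets])) ?_
    · intro x hx
      interval_cases x
      · exact mul_inv_cancel s
      · exact inv_mul_cancel s
      · exact k2
      · exact mul_inv_cancel f
      · exact inv_mul_cancel f
      · exact mul_inv_cancel d
      · exact inv_mul_cancel d
      · exact hcc
    · simp only [Sz10Data.rels, List.forall_mem_cons, List.not_mem_nil, false_imp_iff, implies_true, and_true, ev,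
        List.map_cons, List.map_nil, List.prod_cons, List.prod_nil, mul_one, gs]
      simp only [mul_assoc] at k1 k2 k3 k4 k5 k6 k7 k8 k9 k10 m2' m3 e1 e2 e3 e4 ⊢
      exact ⟨k7, k1, k4, k8, k9, e1, e2, e3, e4, k3, k5, k10, k6, m3, m2'⟩
    · intro u hu
      simp only [Sz10Data.subw, List.mem_cons, List.not_mem_nil, or_false] at hu
      subst hu
      simp only [ev, List.map_cons, List.map_nil, List.prod_cons, List.prod_nil, mul_one, gs]
      exact mem_zpowers f
    · simp only [ev, List.map_cons, List.map_nil, List.prod_cons, List.prod_nil, mul_one, gs]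
  · exfalso
    have m2' : f⁻¹ * s⁻¹ * s⁻¹ * f * s⁻¹ * f⁻¹ * s⁻¹ * s⁻¹ * f * s * c = 1 := by rw [m2, hcc]
    have m3' : f⁻¹ * s⁻¹ * f * s⁻¹ * s⁻¹ * f⁻¹ * s * f * s⁻¹ * s⁻¹ * c = 1 := by rw [m3, hcc]
    refine fin _ (Sz11.mem (zpowers f) (gs c s w f d) ?_ ?_ ?_ [7] (by simp [Sz11Data.targets])) ?_
    · intro x hx
      interval_cases x
      · exact mul_inv_cancel s
      · exact inv_mul_cancel s
      · exact k2
      · exact mul_inv_cancel f
      · exact inv_mul_cancel f
      · exact mul_inv_cancel d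
      · exact inv_mul_cancel d
      · exact hcc
    · simp only [Sz11Data.rels, List.forall_mem_cons, List.not_mem_nil, false_imp_iff, implies_true, and_true, ev,
        List.map_cons, List.map_nil, List.prod_cons, List.prod_nil, mul_one, gs]
      simp only [mul_assoc] at k1 k2 k3 k4 k5 k6 k7 k8 k9 k10 m2' m3' e1 e2 e3 e4 ⊢
      exact ⟨k7, k1, k4, k8, k9, e1, e2, e3, e4, k3, k5, k10, k6, m2', m3'⟩
    · intro u hu
      simp only [Sz11Data.subw, List.mem_cons, List.not_mem_nil, or_false] at hu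
      subst hu
      simp only [ev, List.map_cons, List.map_nil, List.prod_cons, List.prod_nil, mul_one, gs]
      exact mem_zpowers f
    · simp only [ev, List.map_cons, List.map_nil, List.prod_cons, List.prod_nil, mul_one, gs]

/-- if `c` is not in `⟨t, s, w, f, d⟩`, the relators `last`, `xt` are exact -/
theorem exact_all (hc : ∀ x : L, c * x = x * c) (hcc : c * c = 1) (h1 : c ≠ 1) (N : Near c t s w f d y)
    (hH : c ∉ closure ({t, s, w, f, d} : Set L)) : RuRelsX t s w f d y := by
  have H := exact_h hc hcc h1 N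
  have k1 := N.s4
  have k2 := N.w2
  have k3 := N.f7
  have k4 := N.wf
  have k5 := N.ws
  have k6 := N.h1
  have k7 := N.d3
  have k8 := N.ds
  have k9 := N.dw
  have k10 := N.df
  have k11 := N.ts
  have k12 := N.tw
  have k13 := N.tf
  have k14 := N.yd
  have k15 := N.ys
  have k16 := N.yw
  have k17 := N.td
  have k18 := N.ty
  have k19 := H.h2
  have k20 := H.h3
  have e1 := comm4 hc hcc s
  have e2 := comm4' hc hcc k2
  have e3 := comm4 hc hcc f
  have e4 := comm4 hc hcc d
  have e5 := comm4' hc hcc N.t2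
  have e6 := comm4' hc hcc N.y2
  have hsub : ∀ u ∈ ([[0], [1], [3], [4], [6]] : List (List ℕ)), ev (gr c t s w f d y) u ∈
      closure ({t, s, w, f, d} : Set L) := by
    intro u hu
    simp only [List.mem_cons, List.not_mem_nil, or_false] at hu
    rcases hu with rfl | rfl | rfl | rfl | rfl <;>
    · simp only [ev, List.map_cons, List.map_nil, List.prod_cons, List.prod_nil, mul_one, gr]
      exact subset_closure (by simp)
  have hinv : ∀ x, x < 10 → gr c t s w f d y x * gr c t s w f d y (R01Data.C.inv x) = 1 := by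
    intro x hx
    interval_cases x
    · exact N.t2
    · exact mul_inv_cancel s
    · exact inv_mul_cancel s
    · exact k2
    · exact mul_inv_cancel f
    · exact inv_mul_cancel f
    · exact mul_inv_cancel d
    · exact inv_mul_cancel d
    · exact N.y2
    · exact hcc
  have hgc : ev (gr c t s w f d y) [9] = c := by
    simp only [ev, List.map_cons, List.map_nil, List.prod_cons, List.prod_nil, mul_one, gr]
  rcases N.last with m2 | m2 <;> rcases N.xt with m3 | m3
  · exact
      { s4 := N.s4, w2 := N.w2, f7 := N.f7, wf := N.wf, ws := N.ws, h1 := N.h1, h2 := H.h2, h3 := H.h3, t2 := N.t2,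
        d3 := N.d3, td := N.td, ds := N.ds, dw := N.dw, df := N.df, ts := N.ts, tw := N.tw, tf := N.tf, y2 := N.y2,
        yd := N.yd, ty := N.ty, ys := N.ys, yw := N.yw, last := m2, xt := m3 }
  · exfalso
    have m3' : y * f⁻¹ * s * s * f * y * t * y * f⁻¹ * s * s * f * y * t * f⁻¹ * s * s * f * c = 1 := by rw [m3, hcc]
    have := R01.mem (closure ({t, s, w, f, d} : Set L)) (gr c t s w f d y) hinv (by
      simp only [R01Data.rels, List.forall_mem_cons, List.not_mem_nil, false_imp_iff, implies_true, and_true, ev,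
        List.map_cons, List.map_nil, List.prod_cons, List.prod_nil, mul_one, gr]
      simp only [mul_assoc] at k1 k2 k3 k4 k5 k6 k7 k8 k9 k10 k11 k12 k13 k14 k15 k16 k17 k18 k19 k20 m2 m3' e1 e2 e3 e4 e5 e6 ⊢
      exact ⟨k7, k1, k4, k8, k9, e1, e2, e3, e4, k11, k12, k13, k14, k15, k16, e5, e6, k17, k18, k3, k5, k10, k6, k19,
        k20, m2, m3'⟩) hsub [9] (by simp [R01Data.targets])
    rw [hgc] at this
    exact hH this
  · exfalso
    have m2' : f * s * f⁻¹ * y * f * s * f⁻¹ * y * f * s * f⁻¹ * y * s * s * c = 1 := by rw [m2, hcc]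
    have := CertA.mem (closure ({t, s, w, f, d} : Set L)) (gr c t s w f d y) hinv (by
      simp only [CertAData.rels, List.forall_mem_cons, List.not_mem_nil, false_imp_iff, implies_true, and_true, ev,
        List.map_cons, List.map_nil, List.prod_cons, List.prod_nil, mul_one, gr]
      simp only [mul_assoc] at k1 k2 k3 k4 k5 k6 k7 k8 k9 k10 k11 k12 k13 k14 k15 k16 k17 k18 k19 k20 m2' m3 e1 e2 e3 e4 e5 e6 ⊢
      exact ⟨k7, k1, k4, k8, k9, e1, e2, e3, e4, k11, k12, k13, k14, k15, k16, e5, e6, k17, k18, k3, k5, k10, k6, k19,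
        k20, m2', m3⟩) hsub [9] (by simp [CertAData.targets])
    rw [hgc] at this
    exact hH this
  · exfalso
    have m2' : f * s * f⁻¹ * y * f * s * f⁻¹ * y * f * s * f⁻¹ * y * s * s * c = 1 := by rw [m2, hcc]
    have m3' : y * f⁻¹ * s * s * f * y * t * y * f⁻¹ * s * s * f * y * t * f⁻¹ * s * s * f * c = 1 := by rw [m3, hcc]
    have := R11.mem (closure ({t, s, w, f, d} : Set L)) (gr c t s w f d y) hinv (by
      simp only [R11Data.rels, List.forall_mem_cons, List.not_mem_nil, false_imp_iff, implies_true, and_true, ev,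
        List.map_cons, List.map_nil, List.prod_cons, List.prod_nil, mul_one, gr]
      simp only [mul_assoc] at k1 k2 k3 k4 k5 k6 k7 k8 k9 k10 k11 k12 k13 k14 k15 k16 k17 k18 k19 k20 m2' m3' e1 e2 e3 e4 e5 e6 ⊢
      exact ⟨k7, k1, k4, k8, k9, e1, e2, e3, e4, k11, k12, k13, k14, k15, k16, e5, e6, k17, k18, k3, k5, k10, k6, k19,
        k20, m2', m3'⟩) hsub [9] (by simp [R11Data.targets])
    rw [hgc] at this
    exact hH this

end cert

section main

universe u

/-- the bound on the order -/
def Bound : Prop := ∀ (K : Type u) [Group K] (t s w f d y : K), RuRelsX t s w f d y →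
  Nat.card (closure ({t, s, w, f, d, y} : Set K)) ≠ 0 ∧
  Nat.card (closure ({t, s, w, f, d, y} : Set K)) ≤ 145926144000

/-- the bound on the index -/
def Idx : Prop := ∀ (K : Type u) [Group K] (t s w f d y : K), RuRelsX t s w f d y →
  (closure ({t, s, w, f, d} : Set K)).relIndex (closure ({t, s, w, f, d, y} : Set K)) ≤ 417600 ∧
  (closure ({t, s, w, f, d} : Set K)).relIndex (closure ({t, s, w, f, d, y} : Set K)) ≠ 0

/-- the letters of `X` -/
structure Ltr {X : Type*} [Group X] (T S W F D Y : X) : Prop extends RuRelsX T S W F D Y where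
  gen : closure ({T, S, W, F, D, Y} : Set X) = ⊤
  card : Nat.card X = 145926144000

variable {L X : Type u} [Group L] [Finite L] [Group X] {π : L →* X} {c : L} {T S W F D Y : X}

theorem map_cl {t s w f d : L} (hT : π t = T) (hS : π s = S) (hW : π w = W) (hF : π f = F) (hD : π d = D) :
    (closure ({t, s, w, f, d} : Set L)).map π = closure ({T, S, W, F, D} : Set X) := by
  rw [MonoidHom.map_closure]
  congr 1
  rw [Set.image_insert_eq, Set.image_insert_eq, Set.image_insert_eq, Set.image_insert_eq, Set.image_singleton,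
    hT, hS, hW, hF, hD]

theorem map_cl' {t s w f d y : L} (hT : π t = T) (hS : π s = S) (hW : π w = W) (hF : π f = F) (hD : π d = D)
    (hY : π y = Y) : (closure ({t, s, w, f, d, y} : Set L)).map π = closure ({T, S, W, F, D, Y} : Set X) := by
  rw [MonoidHom.map_closure]
  congr 1
  rw [Set.image_insert_eq, Set.image_insert_eq, Set.image_insert_eq, Set.image_insert_eq, Set.image_insert_eq,
    Set.image_singleton, hT, hS, hW, hF, hD, hY]

/-- a subgroup containing `c` has twice the order of its image -/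
theorem card_of_mem (hd : Dbl π c) (K : Subgroup L) (hc : c ∈ K) : 2 * Nat.card (K.map π) ≤ Nat.card K := by
  have h1 := Subgroup.card_eq_card_quotient_mul_card_subgroup (π.subgroupMap K).ker
  have h2 : Nat.card (K ⧸ (π.subgroupMap K).ker) = Nat.card (K.map π) :=
    Nat.card_congr (QuotientGroup.quotientKerEquivOfSurjective _ (π.subgroupMap_surjective K)).toEquiv
  have h3 : 2 ≤ Nat.card (π.subgroupMap K).ker := by
    have e : (⟨⟨c, hc⟩, by
        rw [MonoidHom.mem_ker]; exact Subtype.ext (pi_c hd)⟩ : (π.subgroupMap K).ker) ≠ 1 := by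
      intro h
      exact hd.ne (congrArg (fun x : (π.subgroupMap K).ker => ((x : K) : L)) h)
    have : Nontrivial (π.subgroupMap K).ker := ⟨⟨_, _, e⟩⟩
    exact Finite.one_lt_card
  rw [h1, h2, mul_comm]
  exact Nat.mul_le_mul_left _ h3

/-- in a double cover the lifts of `T` and `D⁻¹ T D` do not commute -/
theorem not_comm (B : Bound.{u}) (I : Idx.{u}) (hX : Ltr T S W F D Y) (hd : Dbl π c)
    (hcomm : ∀ a b : L, π a = T → π b = D⁻¹ * T * D → a * b = b * a) : False := by
  have : Finite X := Finite.of_surjective π hd.surj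
  obtain ⟨t, s, w, f, d, y, ht, hs, hw, hf, hdd, hy, N⟩ := exists_near hd hX.toRuRelsX hcomm
  have H := exact_h hd.cen hd.sq hd.ne N
  have hH : c ∉ closure ({t, s, w, f, d} : Set L) := by
    intro hc
    have h1 := card_of_mem hd _ hc
    have h2 := (HBound.card_H H).1
    rw [map_cl ht hs hw hf hdd] at h1
    have h3 := (I X T S W F D Y hX.toRuRelsX).1
    have hle : closure ({T, S, W, F, D} : Set X) ≤ closure ({T, S, W, F, D, Y} : Set X) := closure_mono (by
      intro x hx; rcases hx with rfl | rfl | rfl | rfl | rfl <;> simp)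
    have e := relIndex_mul_relIndex _ _ _ (bot_le : ⊥ ≤ closure ({T, S, W, F, D} : Set X)) hle
    rw [relIndex_bot_left, relIndex_bot_left, hX.gen] at e
    have e2 : Nat.card (⊤ : Subgroup X) = 145926144000 := by rw [Subgroup.card_top, hX.card]
    rw [e2] at e
    rw [hX.gen] at h3
    have h4 : Nat.card (closure ({T, S, W, F, D} : Set X)) ≤ 174720 := by omega
    have h5 : Nat.card (closure ({T, S, W, F, D} : Set X)) * (closure ({T, S, W, F, D} : Set X)).relIndex ⊤ ≤
      174720 * 417600 := Nat.mul_le_mul h4 h3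
    rw [e] at h5
    norm_num at h5
  have R := exact_all hd.cen hd.sq hd.ne N hH
  have b := (B L t s w f d y R).2
  have hc : c ∉ closure ({t, s, w, f, d, y} : Set L) := by
    intro hc
    have h1 := card_of_mem hd _ hc
    rw [map_cl' ht hs hw hf hdd hy, hX.gen, Subgroup.card_top, hX.card] at h1
    omega
  refine Ctr.false_of_compl hd.toCtr (P := ⊤) (P₁ := closure ({t, s, w, f, d, y} : Set L)) (mem_top c)
    (by rw [index_top]; decide) hc ?_
  intro x _
  have h1 : π x ∈ (closure ({t, s, w, f, d, y} : Set L)).map π := by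
    rw [map_cl' ht hs hw hf hdd hy, hX.gen]
    exact mem_top _
  obtain ⟨k, hk, hkx⟩ := h1
  rcases eq_or hd hkx with h2 | h2
  · left; rwa [← h2]
  · right; rwa [← h2]

/-- **the lifts of `T`, `D⁻¹ T D` have commutator `c`** -/
theorem comm_eq (B : Bound.{u}) (I : Idx.{u}) (hX : Ltr T S W F D Y) (hd : Dbl π c) {x y : L} (hx : π x = T)
    (hy : π y = D⁻¹ * T * D) : ⁅x, y⁆ = c := by
  have hXX : π x * π y = π y * π x := by
    rw [hx, hy]
    have h1 := hX.td
    have h2 := hX.t2
    have h3 := hX.d3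
    have hTi : T⁻¹ = T := inv_eq_of_mul_eq_one_left h2
    have hDi : D⁻¹ = D * D := inv_eq_of_mul_eq_one_right (by rw [← mul_assoc]; exact h3)
    have h4 : D * T * D = T * D⁻¹ * T := by
      calc D * T * D = T⁻¹ * (T * D * T * D * T * D) * (D⁻¹ * T⁻¹) := by group
        _ = T * D⁻¹ * T := by rw [h1, hTi]; group
    have h5 : T * (D⁻¹ * T * D) = D * T * D⁻¹ := by
      calc T * (D⁻¹ * T * D) = (T * D⁻¹ * T) * D := by group
        _ = D * T * (D * D) := by rw [← h4]; group
        _ = D * T * D⁻¹ := by rw [hDi]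
    calc T * (D⁻¹ * T * D) = (T * (D⁻¹ * T * D)) := rfl
      _ = D * T * D⁻¹ := h5
      _ = (D * T⁻¹ * D⁻¹)⁻¹ := by group
      _ = (T * (D⁻¹ * T * D))⁻¹ := by rw [hTi, h5]
      _ = D⁻¹ * T⁻¹ * D * T⁻¹ := by group
      _ = D⁻¹ * T * D * T := by rw [hTi]
  rcases one_or hd (x := ⁅x, y⁆) (by
    rw [map_commutatorElement, commutatorElement_eq_one_iff_mul_comm]; exact hXX) with h | h
  · exfalso
    refine not_comm B I hX hd (fun a b ha hb => ?_)
    have h0 : x * y = y * x := commutatorElement_eq_one_iff_mul_comm.1 h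
    rcases eq_or hd (ha.trans hx.symm) with rfl | rfl <;> rcases eq_or hd (hb.trans hy.symm) with rfl | rfl
    · exact h0
    · calc a * (c * y) = (a * c) * y := by group
        _ = c * (a * y) := by rw [← hd.cen a]; group
        _ = c * y * a := by rw [h0]; group
    · calc c * x * b = c * (x * b) := by group
        _ = (c * b) * x := by rw [h0]; group
        _ = b * (c * x) := by rw [hd.cen b]; group
    · calc c * x * (c * y) = c * (x * c) * y := by group
        _ = c * (c * x) * y := by rw [← hd.cen x]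
        _ = c * c * (x * y) := by group
        _ = c * c * (y * x) := by rw [h0]
        _ = c * (c * y) * x := by group
        _ = c * (y * c) * x := by rw [hd.cen y]
        _ = c * y * (c * x) := by group
  · exact h

theorem conj_SST (hX : RuRelsX T S W F D Y) : ∃ g : X, g * T * g⁻¹ = S * S * T := by
  have hR := hX.toRuRels
  have hTi : T⁻¹ = T := inv_eq_of_mul_eq_one_left hR.t2
  have hYi : Y⁻¹ = Y := inv_eq_of_mul_eq_one_left hR.y2
  have e4 : S * S * (S * S) = 1 := by rw [← mul_assoc]; exact hR.s4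
  have eSi : (S * S)⁻¹ = S * S := inv_eq_of_mul_eq_one_left e4
  refine ⟨F * (Y * (F⁻¹ * (S * S) * F) * Y), ?_⟩
  have e1 : (F * (Y * (F⁻¹ * (S * S) * F) * Y))⁻¹ = (Y * (F⁻¹ * (S * S) * F) * Y) * F⁻¹ := by
    calc (F * (Y * (F⁻¹ * (S * S) * F) * Y))⁻¹ = (Y⁻¹ * (F⁻¹ * (S * S)⁻¹ * F) * Y⁻¹) * F⁻¹ := by group
      _ = _ := by rw [hYi, eSi]
  have e2 : F * T = T * F := by
    have := hR.tf
    calc F * T = (T * F * T * F⁻¹)⁻¹ * (T * F) * (T * T) := by group
      _ = T * F := by rw [this, hR.t2]; group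
  have e3 : (Y * (F⁻¹ * (S * S) * F) * Y) * T * (Y * (F⁻¹ * (S * S) * F) * Y) = (F⁻¹ * (S * S) * F) * T := by
    calc (Y * (F⁻¹ * (S * S) * F) * Y) * T * (Y * (F⁻¹ * (S * S) * F) * Y) =
        (Y * F⁻¹ * S * S * F * Y * T * Y * F⁻¹ * S * S * F * Y * T * F⁻¹ * S * S * F) *
          (F⁻¹ * (S * S)⁻¹ * F * T⁻¹) := by group
      _ = F⁻¹ * (S * S)⁻¹ * F * T⁻¹ := by rw [hX.xt, one_mul]
      _ = _ := by rw [eSi, hTi]
  rw [e1]
  calc (F * (Y * (F⁻¹ * (S * S) * F) * Y)) * T * ((Y * (F⁻¹ * (S * S) * F) * Y) * F⁻¹) =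
      F * ((Y * (F⁻¹ * (S * S) * F) * Y) * T * (Y * (F⁻¹ * (S * S) * F) * Y)) * F⁻¹ := by group
    _ = F * ((F⁻¹ * (S * S) * F) * T) * F⁻¹ := by rw [e3]
    _ = (S * S) * (F * T) * F⁻¹ := by group
    _ = S * S * T := by rw [e2]; group

/-- **lifts of `T` have order 4** -/
theorem sq_t (B : Bound.{u}) (I : Idx.{u}) (hX : Ltr T S W F D Y) (hd : Dbl π c) {x : L} (hx : π x = T) :
    x * x = c := by
  have hR := hX.toRuRels
  have o3 : Odd 3 := by decide
  obtain ⟨d, hdd, hd3⟩ := odd_lift hd o3 (x := D) (by rw [← hR.d3]; simp only [pow_succ, pow_zero, one_mul])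
  have hd3' : d * d * d = 1 := by rw [← hd3]; simp only [pow_succ, pow_zero, one_mul]
  have hdi : d⁻¹ = d * d := inv_eq_of_mul_eq_one_right (by rw [← mul_assoc]; exact hd3')
  have e1 : π (x * d * x * d * x * d) = 1 := by
    simp only [map_mul, hx, hdd]; exact hR.td
  have key : ∃ t : L, π t = T ∧ t * t = x * x ∧ t * d * t * d * t * d = 1 := by
    rcases one_or hd e1 with h | h
    · exact ⟨x, hx, rfl, h⟩
    · have h0 : π (c * x) = T := by rw [map_mul, pi_c hd, one_mul, hx]
      refine ⟨c * x, h0, sq_eq_of_pi hd (h0.trans hx.symm), ?_⟩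
      have h2 := ev_sign hd.cen hd.sq (gl x 1 1 1 d 1) (gl (sg c true * x) (sg c false * 1) (sg c false * 1) 1 d
        (sg c false * 1)) _ [0, 4, 0, 4, 0, 4] (fun z _ => gl_sign hd x 1 1 1 d 1 true false false false z)
      rw [ev_td, ev_td, h] at h2
      rw [sg_true] at h2
      rw [h2]
      exact hd.sq
  obtain ⟨t, ht, htx, h⟩ := key
  rw [← htx]
  rcases sq_or hd (x := t) (by rw [ht]; exact hR.t2) with h2 | h2
  · exfalso
    have hti : t⁻¹ = t := inv_eq_of_mul_eq_one_left h2
    have hcm := comm_eq B I hX hd ht (y := d⁻¹ * t * d) (by simp only [map_mul, map_inv, ht, hdd])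
    have h3 : d * t * d = t * d⁻¹ * t := by
      calc d * t * d = t⁻¹ * (t * d * t * d * t * d) * (d⁻¹ * t⁻¹) := by group
        _ = t * d⁻¹ * t := by rw [h, hti]; group
    have h6 : t * (d⁻¹ * t * d) = d * t * d⁻¹ := by
      calc t * (d⁻¹ * t * d) = (t * d⁻¹ * t) * d := by group
        _ = d * t * d * d := by rw [← h3]
        _ = d * t * d⁻¹ := by rw [hdi]; group
    have h7 : (t * (d⁻¹ * t * d)) * (t * (d⁻¹ * t * d)) = 1 := by
      rw [h6]
      calc d * t * d⁻¹ * (d * t * d⁻¹) = d * (t * t) * d⁻¹ := by group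
        _ = 1 := by rw [h2]; group
    have h8 : ⁅t, d⁻¹ * t * d⁆ = (t * (d⁻¹ * t * d)) * (t * (d⁻¹ * t * d)) := by
      rw [commutatorElement_def]
      have h9 : (d⁻¹ * t * d)⁻¹ = d⁻¹ * t * d := by
        calc (d⁻¹ * t * d)⁻¹ = d⁻¹ * t⁻¹ * d := by group
          _ = _ := by rw [hti]
      rw [h9, hti]; group
    rw [h8, h7] at hcm
    exact hd.ne hcm.symm
  · exact h2

/-- **lifts of `S * S` are involutions** -/
theorem sq_e (hX : RuRelsX T S W F D Y) (hd : Dbl π c) {x : L} (hx : π x = S * S) : x * x = 1 := by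
  have hR := hX.toRuRels
  have o7 : Odd 7 := by decide
  obtain ⟨f, hf, hf7⟩ := odd_lift hd o7 (x := F) (by rw [← hR.f7]; simp only [pow_succ, pow_zero, one_mul])
  obtain ⟨t, ht⟩ := hd.surj T
  obtain ⟨s, hs⟩ := hd.surj S
  have htf : t * f = f * t := by
    refine comm_odd hd o7 ?_ hf7
    rw [ht, hf]
    have h2 : T⁻¹ = T := inv_eq_of_mul_eq_one_left hR.t2
    calc T * F = (T * F * T * F⁻¹) * F * T⁻¹ := by group
      _ = F * T := by rw [hR.tf, one_mul, h2]
  have hts : t * s = s * t := comm_ts hd hR ht hs hf htf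
  obtain ⟨g, hg⟩ := conj_SST hX
  have e5 := sq_conj hd (x := t) (y := s * s * t) g (by rw [map_mul, map_mul, hs, ht]; exact hg)
    (by rw [ht]; exact hR.t2)
  have h1 : (s * s) * (s * s) = 1 := by
    have h2 : (s * s * t) * (s * s * t) = (s * s) * (s * s) * (t * t) := by
      have h3 : t * (s * s) = s * s * t := by rw [← mul_assoc, hts, mul_assoc, hts, ← mul_assoc]
      calc (s * s * t) * (s * s * t) = (s * s) * (t * (s * s)) * t := by group
        _ = (s * s) * (s * s * t) * t := by rw [h3]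
        _ = _ := by group
    rw [h2] at e5
    exact mul_eq_right.1 e5
  rw [sq_eq_of_pi hd (x := x) (y := s * s) (by rw [hx, map_mul, hs]), h1]

end main

/-- the 2-part of the multiplier -/
theorem oneCover_of_ltr (B : Bound.{0}) (I : Idx.{0}) {X : Type} [Group X] {T S W F D Y : X} (hX : Ltr T S W F D Y) :
    MulBound.OneCover X :=
  MulBaer.oneCover_of hX.t2 (fun _ _ _ _ _ hd _ _ hx hy => comm_eq B I hX hd hx hy)

end Cfsg.Agent.KFacts.MulRu.Main
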