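import Cfsg.Agent.KFacts.MulRu.Sign
import Cfsg.Agent.RuD.RelsX
import Cfsg.Agent.RuD.TCB
import Cfsg.Agent.RuD.TCL
import Cfsg.Agent.RuD.TCH

/-!
# Double covers of the Rudvalis group: all relators but four

`X` is a group with letters satisfying `RuRelsX`, `π : L → X` a perfect double cover with kernel `{1, c}`. If the lifts
of `T` and `D⁻¹ T D` commute, there are lifts `t, s, w, f, d, y` of the letters satisfying all relations, except that
the values of the four relators `h2, h3, last, xt` are `1` or `c` (`exists_near`).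
-/

set_option autoImplicit false
set_option maxRecDepth 100000
set_option linter.dupNamespace false

namespace Cfsg.Agent.KFacts.MulRu.Near

open Subgroup Cfsg.Agent.KFacts.MulTwo Cfsg.Agent.KFacts.MulDef Cfsg.Agent.KFacts.MulSpor.Class
open Cfsg.Agent.SporadicRecognition.CosetCert Cfsg.Agent.KFacts.MulRu.Sign
open Cfsg.Agent.RuD.Rels

/-- the relations without `h2, h3, last, xt` -/
structure Base {G : Type*} [Group G] (t s w f d y : G) : Prop where
  s4 : s * s * s * s = 1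
  w2 : w * w = 1
  f7 : f * f * f * f * f * f * f = 1
  wf : w * f * w * f = 1
  ws : s⁻¹ * s⁻¹ * w * s * w * s⁻¹ * w = 1
  h1 : f⁻¹ * f⁻¹ * f⁻¹ * s⁻¹ * f * f * s⁻¹ * f * s⁻¹ = 1
  t2 : t * t = 1
  d3 : d * d * d = 1
  td : t * d * t * d * t * d = 1
  ds : d * s * d⁻¹ * s⁻¹ = 1
  dw : d * w * d⁻¹ * w = 1
  df : d⁻¹ * f * d * f⁻¹ * f⁻¹ * f⁻¹ * f⁻¹ = 1
  ts : t * s * t * s⁻¹ = 1
  tw : t * w * t * w = 1
  tf : t * f * t * f⁻¹ = 1
  y2 : y * y = 1
  yd : y * d * y * d = 1
  ty : t * y * t * y * t * y = 1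
  ys : y * s * y * s⁻¹ = 1
  yw : y * w * y * w = 1

/-- the values of the four remaining relators -/
structure Near {G : Type*} [Group G] (c t s w f d y : G) : Prop extends Base t s w f d y where
  h2 : f⁻¹ * s⁻¹ * s⁻¹ * f * s⁻¹ * f⁻¹ * s⁻¹ * s⁻¹ * f * s = 1 ∨
    f⁻¹ * s⁻¹ * s⁻¹ * f * s⁻¹ * f⁻¹ * s⁻¹ * s⁻¹ * f * s = c
  h3 : f⁻¹ * s⁻¹ * f * s⁻¹ * s⁻¹ * f⁻¹ * s * f * s⁻¹ * s⁻¹ = 1 ∨
    f⁻¹ * s⁻¹ * f * s⁻¹ * s⁻¹ * f⁻¹ * s * f * s⁻¹ * s⁻¹ = c
  last : f * s * f⁻¹ * y * f * s * f⁻¹ * y * f * s * f⁻¹ * y * s * s = 1 ∨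
    f * s * f⁻¹ * y * f * s * f⁻¹ * y * f * s * f⁻¹ * y * s * s = c
  xt : y * f⁻¹ * s * s * f * y * t * y * f⁻¹ * s * s * f * y * t * f⁻¹ * s * s * f = 1 ∨
    y * f⁻¹ * s * s * f * y * t * y * f⁻¹ * s * s * f * y * t * f⁻¹ * s * s * f = c

section words

variable {G : Type*} [Group G]

/-- the letters `t, s, w, f, d, y, s⁻¹, f⁻¹, d⁻¹` -/
def gl (t s w f d y : G) : ℕ → G
  | 0 => t
  | 1 => s
  | 2 => w
  | 3 => f
  | 4 => d
  | 5 => y
  | 6 => s⁻¹
  | 7 => f⁻¹
  | 8 => d⁻¹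
  | _ => 1

variable (t s w f d y : G)

theorem ev_h1 : ev (gl t s w f d y) [7, 7, 7, 6, 3, 3, 6, 3, 6] =
    f⁻¹ * f⁻¹ * f⁻¹ * s⁻¹ * f * f * s⁻¹ * f * s⁻¹ := by
  simp only [ev, List.map_cons, List.map_nil, List.prod_cons, List.prod_nil, mul_one, gl, mul_assoc]

theorem ev_ws : ev (gl t s w f d y) [6, 6, 2, 1, 2, 6, 2] = s⁻¹ * s⁻¹ * w * s * w * s⁻¹ * w := by
  simp only [ev, List.map_cons, List.map_nil, List.prod_cons, List.prod_nil, mul_one, gl, mul_assoc]

theorem ev_td : ev (gl t s w f d y) [0, 4, 0, 4, 0, 4] = t * d * t * d * t * d := by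
  simp only [ev, List.map_cons, List.map_nil, List.prod_cons, List.prod_nil, mul_one, gl, mul_assoc]

theorem ev_ty : ev (gl t s w f d y) [0, 5, 0, 5, 0, 5] = t * y * t * y * t * y := by
  simp only [ev, List.map_cons, List.map_nil, List.prod_cons, List.prod_nil, mul_one, gl, mul_assoc]

end words

variable {L X : Type*} [Group L] [Group X] {π : L →* X} {c : L} {T S W F D Y : X}

section steps

theorem gl_sign (hd : Dbl π c) (t s w f d y : L) (a0 a1 a2 a5 : Bool) (x : ℕ) :
    gl (sg c a0 * t) (sg c a1 * s) (sg c a2 * w) f d (sg c a5 * y) x =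
      sg c (match x with | 0 => a0 | 1 => a1 | 2 => a2 | 5 => a5 | 6 => a1 | _ => false) * gl t s w f d y x := by
  match x with
  | 0 => rfl
  | 1 => rfl
  | 2 => rfl
  | 3 => show f = sg c false * f; rw [sg_false, one_mul]
  | 4 => show d = sg c false * d; rw [sg_false, one_mul]
  | 5 => rfl
  | 6 => show (sg c a1 * s)⁻¹ = sg c a1 * s⁻¹; rw [mul_inv_rev, sg_inv hd, sg_comm hd.cen]
  | 7 => show f⁻¹ = sg c false * f⁻¹; rw [sg_false, one_mul]
  | 8 => show d⁻¹ = sg c false * d⁻¹; rw [sg_false, one_mul]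
  | n + 9 => show (1 : L) = sg c false * 1; rw [sg_false, one_mul]

/-- the element `t` -/
theorem exists_t (hd : Dbl π c) (hX : RuRels T S W F D Y) {d : L} (hπd : π d = D) (hd3 : d * d * d = 1)
    (hcomm : ∀ a b : L, π a = T → π b = D⁻¹ * T * D → a * b = b * a) :
    ∃ t : L, π t = T ∧ t * t = 1 ∧ t * d * t * d * t * d = 1 := by
  obtain ⟨t0, ht0⟩ := hd.surj T
  have e1 : π (t0 * d * t0 * d * t0 * d) = 1 := by
    simp only [map_mul, ht0, hπd]; exact hX.td
  have key : ∃ t : L, π t = T ∧ t * d * t * d * t * d = 1 := by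
    rcases one_or hd e1 with h | h
    · exact ⟨t0, ht0, h⟩
    · refine ⟨c * t0, by rw [map_mul, pi_c hd, one_mul, ht0], ?_⟩
      have h2 := ev_sign hd.cen hd.sq (gl t0 1 1 1 d 1) (gl (sg c true * t0) (sg c false * 1) (sg c false * 1) 1 d
        (sg c false * 1)) _ [0, 4, 0, 4, 0, 4] (fun x _ => gl_sign hd t0 1 1 1 d 1 true false false false x)
      rw [ev_td, ev_td, h] at h2
      rw [sg_true] at h2
      rw [h2]
      exact hd.sq
  obtain ⟨t, ht, h⟩ := key
  refine ⟨t, ht, ?_, h⟩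
  have ht2 : t * t = 1 ∨ t * t = c := sq_or hd (by rw [ht]; exact hX.t2)
  have hdi : d⁻¹ = d * d := inv_eq_of_mul_eq_one_right (by rw [← mul_assoc]; exact hd3)
  have hc' : t * (d⁻¹ * t * d) = d⁻¹ * t * d * t := hcomm t (d⁻¹ * t * d) ht (by simp only [map_mul, map_inv, ht, hπd])
  rcases ht2 with h2 | h2
  · exact h2
  · exfalso
    -- `t⁻¹ = c t`
    have hti : t⁻¹ = c * t := by
      apply inv_eq_of_mul_eq_one_right
      rw [← mul_assoc, ← hd.cen t, mul_assoc, h2, hd.sq]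
    have h3 : d * t * d = t * d⁻¹ * t := by
      have h4 : t * (d * t * d) * (t * d) = 1 := by rw [← h]; group
      have h5 : d * t * d = t⁻¹ * d⁻¹ * t⁻¹ := by
        calc d * t * d = t⁻¹ * (t * (d * t * d) * (t * d)) * (d⁻¹ * t⁻¹) := by group
          _ = t⁻¹ * d⁻¹ * t⁻¹ := by rw [h4]; group
      rw [h5, hti]
      calc c * t * d⁻¹ * (c * t) = c * (t * d⁻¹ * c) * t := by group
        _ = c * (c * (t * d⁻¹)) * t := by rw [hd.cen (t * d⁻¹)]
        _ = (c * c) * (t * d⁻¹ * t) := by group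
        _ = t * d⁻¹ * t := by rw [hd.sq, one_mul]
    -- `t (d⁻¹ t d) = d t d⁻¹`
    have h6 : t * (d⁻¹ * t * d) = d * t * d⁻¹ := by
      calc t * (d⁻¹ * t * d) = (t * d⁻¹ * t) * d := by group
        _ = d * t * d * d := by rw [← h3]
        _ = d * t * d⁻¹ := by rw [hdi]; group
    have h7 : (t * (d⁻¹ * t * d)) * (t * (d⁻¹ * t * d)) = c := by
      rw [h6]
      calc d * t * d⁻¹ * (d * t * d⁻¹) = d * (t * t) * d⁻¹ := by group
        _ = d * c * d⁻¹ := by rw [h2]
        _ = c := by rw [← hd.cen d, mul_inv_cancel_right]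
    have h8 : (t * (d⁻¹ * t * d)) * (t * (d⁻¹ * t * d)) = 1 := by
      calc (t * (d⁻¹ * t * d)) * (t * (d⁻¹ * t * d)) = t * ((d⁻¹ * t * d) * t) * (d⁻¹ * t * d) := by group
        _ = t * (t * (d⁻¹ * t * d)) * (d⁻¹ * t * d) := by rw [← hc']
        _ = (t * t) * (d⁻¹ * (t * t) * d) := by group
        _ = c * (d⁻¹ * c * d) := by rw [h2]
        _ = c * (d⁻¹ * (c * d)) := by group
        _ = c * (d⁻¹ * (d * c)) := by rw [hd.cen d]
        _ = 1 := by rw [inv_mul_cancel_left, hd.sq]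
    exact hd.ne (h7.symm.trans h8)

/-- the element `t` commutes with all lifts of `S` -/
theorem comm_ts (hd : Dbl π c) (hX : RuRels T S W F D Y) {t s f : L} (ht : π t = T) (hs : π s = S) (hf : π f = F)
    (htf : t * f = f * t) : t * s = s * t := by
  obtain ⟨b, hb⟩ := conj_sg hd (a := t) (x := s) (by
    rw [ht, hs]
    have := hX.ts
    have h2 : T * T = 1 := hX.t2
    calc T * S = T * S * T * (S⁻¹ * S) * T⁻¹ := by group
      _ = (T * S * T * S⁻¹) * S * T⁻¹ := by group
      _ = S * T⁻¹ := by rw [this, one_mul]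
      _ = S * T := by rw [inv_eq_of_mul_eq_one_left h2])
  have hz : π (ev (gl t s 1 f 1 1) [7, 7, 7, 6, 3, 3, 6, 3, 6]) = 1 := by
    rw [ev_h1]
    simp only [map_mul, map_inv, hs, hf]
    exact hX.h1
  have h := par_conj hd.cen hd.sq hd.ne (gl t s 1 f 1 1) (fun x => match x with | 6 => b | _ => false)
    [7, 7, 7, 6, 3, 3, 6, 3, 6] t (by
      intro x hx
      have h3 : t * f * t⁻¹ = sg c false * f := by rw [sg_false, one_mul]; exact conj_of_comm htf
      simp only [List.mem_cons, List.not_mem_nil, or_false] at hx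
      rcases hx with rfl | rfl | rfl | rfl | rfl | rfl | rfl | rfl | rfl
      all_goals first | exact conj_inv_sg hd h3 | exact conj_inv_sg hd hb | exact h3) (central hd hz t)
  have hb0 : b = false := by
    cases b
    · rfl
    · exact absurd h (by decide)
  rw [hb0, sg_false, one_mul] at hb
  exact comm_of_conj hb

/-- the element `t` commutes with all lifts of `W` -/
theorem comm_tw (hd : Dbl π c) (hX : RuRels T S W F D Y) {t s w : L} (ht : π t = T) (hs : π s = S) (hw : π w = W)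
    (hts : t * s = s * t) : t * w = w * t := by
  obtain ⟨b, hb⟩ := conj_sg hd (a := t) (x := w) (by
    rw [ht, hw]
    have := hX.tw
    have h2 : T * T = 1 := hX.t2
    have h3 : W * W = 1 := hX.w2
    calc T * W = (T * W * T * W) * (W⁻¹ * T⁻¹) := by group
      _ = W⁻¹ * T⁻¹ := by rw [this, one_mul]
      _ = W * T := by rw [inv_eq_of_mul_eq_one_left h2, inv_eq_of_mul_eq_one_left h3])
  have hz : π (ev (gl t s w 1 1 1) [6, 6, 2, 1, 2, 6, 2]) = 1 := by
    rw [ev_ws]
    simp only [map_mul, map_inv, hs, hw]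
    exact hX.ws
  have h := par_conj hd.cen hd.sq hd.ne (gl t s w 1 1 1) (fun x => match x with | 2 => b | _ => false)
    [6, 6, 2, 1, 2, 6, 2] t (by
      intro x hx
      have h3 : t * s * t⁻¹ = sg c false * s := by rw [sg_false, one_mul]; exact conj_of_comm hts
      simp only [List.mem_cons, List.not_mem_nil, or_false] at hx
      rcases hx with rfl | rfl | rfl | rfl | rfl | rfl | rfl
      all_goals first | exact conj_inv_sg hd h3 | exact hb | exact h3) (central hd hz t)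
  have hb0 : b = false := by
    cases b
    · rfl
    · exact absurd h (by decide)
  rw [hb0, sg_false, one_mul] at hb
  exact comm_of_conj hb

/-- an element commuting with `t` commutes with `y` if its image does (`(t y)³ = 1`) -/
theorem comm_y (hd : Dbl π c) {t y x : L} (hty : t * y * t * y * t * y = 1) (htx : t * x = x * t)
    (h : π y * π x = π x * π y) : y * x = x * y := by
  obtain ⟨b, hb⟩ := conj_sg hd (a := y) (x := x) h
  have h1 : ∀ k, (t * y) * (sg c k * x) * (t * y)⁻¹ = sg c (xor k b) * x := by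
    intro k
    calc (t * y) * (sg c k * x) * (t * y)⁻¹ = t * (y * sg c k) * x * y⁻¹ * t⁻¹ := by group
      _ = t * (sg c k * y) * x * y⁻¹ * t⁻¹ := by rw [sg_comm hd.cen k y]
      _ = (t * sg c k) * (y * x * y⁻¹) * t⁻¹ := by group
      _ = (sg c k * t) * (sg c b * x) * t⁻¹ := by rw [hb, sg_comm hd.cen k t]
      _ = sg c k * (t * sg c b) * x * t⁻¹ := by group
      _ = sg c k * (sg c b * t) * x * t⁻¹ := by rw [sg_comm hd.cen b t]
      _ = (sg c k * sg c b) * (t * x) * t⁻¹ := by group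
      _ = sg c (xor k b) * x := by rw [sg_mul hd.sq, htx]; group
  have h2 : (t * y) * ((t * y) * ((t * y) * x * (t * y)⁻¹) * (t * y)⁻¹) * (t * y)⁻¹ = x := by
    calc _ = (t * y * t * y * t * y) * x * (t * y * t * y * t * y)⁻¹ := by group
      _ = x := by rw [hty]; group
  have h3 := h1 false
  rw [sg_false, one_mul] at h3
  rw [h3, h1, h1] at h2
  have h4 : b = false := by
    cases b
    · rfl
    · exact absurd (mul_eq_right.1 h2) hd.ne
  rw [h4, sg_false, one_mul] at hb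
  exact comm_of_conj hb

/-- the lifts -/
theorem exists_near (hd : Dbl π c) (hX : RuRelsX T S W F D Y)
    (hcomm : ∀ a b : L, π a = T → π b = D⁻¹ * T * D → a * b = b * a) :
    ∃ t s w f d y : L, π t = T ∧ π s = S ∧ π w = W ∧ π f = F ∧ π d = D ∧ π y = Y ∧ Near c t s w f d y := by
  have hR := hX.toRuRels
  have o7 : Odd 7 := by decide
  have o3 : Odd 3 := by decide
  have hπc : π c = 1 := pi_c hd
  have hpi : ∀ b, π (sg c b) = 1 := by
    intro b; cases b
    · rw [sg_false, map_one]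
    · exact hπc
  -- `f`, `d`
  obtain ⟨f, hf, hf7⟩ := odd_lift hd o7 (x := F) (by rw [← hR.f7]; simp only [pow_succ, pow_zero, one_mul])
  obtain ⟨d, hdd, hd3⟩ := odd_lift hd o3 (x := D) (by rw [← hR.d3]; simp only [pow_succ, pow_zero, one_mul])
  have hd3' : d * d * d = 1 := by rw [← hd3]; simp only [pow_succ, pow_zero, one_mul]
  have hf7' : f * f * f * f * f * f * f = 1 := by rw [← hf7]; simp only [pow_succ, pow_zero, one_mul]
  -- `t`
  obtain ⟨t, ht, ht2, htd⟩ := exists_t hd hR hdd hd3' hcomm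
  have hti : t⁻¹ = t := inv_eq_of_mul_eq_one_left ht2
  have htf : t * f = f * t := by
    refine comm_odd hd o7 ?_ hf7
    rw [ht, hf]
    have h2 : T⁻¹ = T := inv_eq_of_mul_eq_one_left hR.t2
    calc T * F = (T * F * T * F⁻¹) * F * T⁻¹ := by group
      _ = F * T := by rw [hR.tf, one_mul, h2]
  -- `s`
  obtain ⟨s0, hs0⟩ := hd.surj S
  have hs : ∃ s : L, π s = S ∧ f⁻¹ * f⁻¹ * f⁻¹ * s⁻¹ * f * f * s⁻¹ * f * s⁻¹ = 1 := by
    have e1 : π (f⁻¹ * f⁻¹ * f⁻¹ * s0⁻¹ * f * f * s0⁻¹ * f * s0⁻¹) = 1 := by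
      simp only [map_mul, map_inv, hs0, hf]; exact hR.h1
    rcases one_or hd e1 with h | h
    · exact ⟨s0, hs0, h⟩
    · refine ⟨c * s0, by rw [map_mul, hπc, one_mul, hs0], ?_⟩
      have h2 := ev_sign hd.cen hd.sq (gl 1 s0 1 f 1 1) (gl (sg c false * 1) (sg c true * s0) (sg c false * 1) f 1
        (sg c false * 1)) _ [7, 7, 7, 6, 3, 3, 6, 3, 6] (fun x _ => gl_sign hd 1 s0 1 f 1 1 false true false false x)
      rw [ev_h1, ev_h1, h, sg_true] at h2
      rw [h2]
      exact hd.sq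
  obtain ⟨s, hs, h1⟩ := hs
  have hts : t * s = s * t := comm_ts hd hR ht hs hf htf
  -- `w`
  obtain ⟨w0, hw0⟩ := hd.surj W
  have hw : ∃ w : L, π w = W ∧ s⁻¹ * s⁻¹ * w * s * w * s⁻¹ * w = 1 := by
    have e1 : π (s⁻¹ * s⁻¹ * w0 * s * w0 * s⁻¹ * w0) = 1 := by
      simp only [map_mul, map_inv, hs, hw0]; exact hR.ws
    rcases one_or hd e1 with h | h
    · exact ⟨w0, hw0, h⟩
    · refine ⟨c * w0, by rw [map_mul, hπc, one_mul, hw0], ?_⟩
      have h2 := ev_sign hd.cen hd.sq (gl 1 s w0 1 1 1) (gl (sg c false * 1) (sg c false * s) (sg c true * w0) 1 1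
        (sg c false * 1)) _ [6, 6, 2, 1, 2, 6, 2] (fun x _ => gl_sign hd 1 s w0 1 1 1 false false true false x)
      rw [ev_ws, ev_ws, h, sg_true, sg_false, one_mul] at h2
      rw [h2]
      exact hd.sq
  obtain ⟨w, hw, hws⟩ := hw
  have htw : t * w = w * t := comm_tw hd hR ht hs hw hts
  -- `y`
  obtain ⟨y0, hy0⟩ := hd.surj Y
  have hy : ∃ y : L, π y = Y ∧ t * y * t * y * t * y = 1 := by
    have e1 : π (t * y0 * t * y0 * t * y0) = 1 := by
      simp only [map_mul, ht, hy0]; exact hR.ty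
    rcases one_or hd e1 with h | h
    · exact ⟨y0, hy0, h⟩
    · refine ⟨c * y0, by rw [map_mul, hπc, one_mul, hy0], ?_⟩
      have h2 := ev_sign hd.cen hd.sq (gl t 1 1 1 1 y0) (gl (sg c false * t) (sg c false * 1) (sg c false * 1) 1 1
        (sg c true * y0)) _ [0, 5, 0, 5, 0, 5] (fun x _ => gl_sign hd t 1 1 1 1 y0 false false false true x)
      rw [ev_ty, ev_ty, h, sg_true, sg_false, one_mul] at h2
      rw [h2]
      exact hd.sq
  obtain ⟨y, hy, hty⟩ := hy
  -- squares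
  have hTi : T⁻¹ = T := inv_eq_of_mul_eq_one_left hR.t2
  have hYi : Y⁻¹ = Y := inv_eq_of_mul_eq_one_left hR.y2
  have hWi : W⁻¹ = W := inv_eq_of_mul_eq_one_left hR.w2
  have hY : (T * Y) * T * (T * Y)⁻¹ = Y := by
    calc (T * Y) * T * (T * Y)⁻¹ = (T * Y * T * Y * T * Y) * (Y⁻¹ * T⁻¹ * Y⁻¹ * Y⁻¹ * T⁻¹) := by group
      _ = Y⁻¹ * (T⁻¹ * (Y⁻¹ * Y⁻¹) * T⁻¹) := by rw [hR.ty]; group
      _ = Y * (T * (Y * Y) * T) := by rw [hYi, hTi]
      _ = Y := by rw [hR.y2, mul_one, hR.t2, mul_one]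
  have hy2 : y * y = 1 := by
    rw [sq_conj hd (x := t) (y := y) (T * Y) (by rw [ht, hy]; exact hY) (by rw [ht]; exact hR.t2), ht2]
  have hs4 : s * s * s * s = 1 := by
    have e4 : S * S * (S * S) = 1 := by rw [← mul_assoc]; exact hR.s4
    have eSi : (S * S)⁻¹ = S * S := inv_eq_of_mul_eq_one_left e4
    have hv : (F * (Y * (F⁻¹ * (S * S) * F) * Y)) * T * (F * (Y * (F⁻¹ * (S * S) * F) * Y))⁻¹ = S * S * T := by
      have e1 : (F * (Y * (F⁻¹ * (S * S) * F) * Y))⁻¹ = (Y * (F⁻¹ * (S * S) * F) * Y) * F⁻¹ := by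
        calc (F * (Y * (F⁻¹ * (S * S) * F) * Y))⁻¹ = (Y⁻¹ * (F⁻¹ * (S * S)⁻¹ * F) * Y⁻¹) * F⁻¹ := by group
          _ = _ := by rw [hYi, eSi]
      have e2 : F * T = T * F := by
        have := hR.tf
        calc F * T = (T * F * T * F⁻¹)⁻¹ * (T * F) * (T * T) := by group
          _ = T * F := by rw [this, hR.t2]; group
      have e3 : (Y * (F⁻¹ * (S * S) * F) * Y) * T * (Y * (F⁻¹ * (S * S) * F) * Y) = (F⁻¹ * (S * S) * F) * T := by
        calc (Y * (F⁻¹ * (S * S) * F) * Y) * T * (Y * (F⁻¹ * (S * S) * F) * Y) =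
            (Y * F⁻¹ * S * S * F * Y * T * Y * F⁻¹ * S * S * F * Y * T * F⁻¹ * S * S * F) *
              (F⁻¹ * (S * S)⁻¹ * F * T⁻¹) := by group
          _ = F⁻¹ * (S * S)⁻¹ * F * T⁻¹ := by rw [hX.xt, one_mul]
          _ = _ := by rw [eSi, hTi]
      rw [e1]
      calc (F * (Y * (F⁻¹ * (S * S) * F) * Y)) * T * ((Y * (F⁻¹ * (S * S) * F) * Y) * F⁻¹) =
          F * ((Y * (F⁻¹ * (S * S) * F) * Y) * T * (Y * (F⁻¹ * (S * S) * F) * Y)) * F⁻¹ := by group
        _ = F * ((F⁻¹ * (S * S) * F) * T) * F⁻¹ := by rw [e3]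
        _ = (S * S) * (F * T) * F⁻¹ := by group
        _ = S * S * T := by rw [e2]; group
    have e5 := sq_conj hd (x := t) (y := s * s * t) _ (by rw [map_mul, map_mul, hs, ht]; exact hv)
      (by rw [ht]; exact hR.t2)
    rw [ht2] at e5
    calc s * s * s * s = s * (s * (s * (s * (t * t)))) := by rw [ht2]; group
      _ = s * (s * (s * ((s * t) * t))) := by group
      _ = s * (s * (s * ((t * s) * t))) := by rw [hts]
      _ = s * (s * ((s * t) * (s * t))) := by group
      _ = s * (s * ((t * s) * (s * t))) := by rw [hts]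
      _ = (s * s * t) * (s * s * t) := by group
      _ = 1 := e5
  have hw2 : w * w = 1 := by
    have e1 : (W * S) * W * (W * S)⁻¹ = S * S := by
      calc (W * S) * W * (W * S)⁻¹ = W * S * W * S⁻¹ * W⁻¹ := by group
        _ = W * S * W * S⁻¹ * W := by rw [hWi]
        _ = S * S * (S⁻¹ * S⁻¹ * W * S * W * S⁻¹ * W) := by group
        _ = S * S := by rw [hR.ws, mul_one]
    have e2 := sq_conj hd (x := w) (y := s * s) _ (by rw [map_mul, hs, hw]; exact e1) (by rw [hw]; exact hR.w2)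
    rw [← e2, ← mul_assoc]
    exact hs4
  have hyi : y⁻¹ = y := inv_eq_of_mul_eq_one_left hy2
  have hwi : w⁻¹ = w := inv_eq_of_mul_eq_one_left hw2
  -- commutations with `y`
  have hys : y * s = s * y := by
    refine comm_y hd hty hts ?_
    rw [hy, hs]
    calc Y * S = (Y * S * Y * S⁻¹) * (S * Y⁻¹) := by group
      _ = S * Y := by rw [hR.ys, one_mul, hYi]
  have hyw : y * w = w * y := by
    refine comm_y hd hty htw ?_
    rw [hy, hw]
    calc Y * W = (Y * W * Y * W) * (W⁻¹ * Y⁻¹) := by group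
      _ = W * Y := by rw [hR.yw, one_mul, hWi, hYi]
  have hd3i : (d⁻¹) ^ 3 = 1 := by rw [inv_pow, hd3, inv_one]
  have hf7i : (f⁻¹) ^ 7 = 1 := by rw [inv_pow, hf7, inv_one]
  have hyd : y * d * y⁻¹ = d⁻¹ := by
    refine odd_unique hd o3 ?_ (by rw [conj_pow', hd3]; group) hd3i
    rw [map_mul, map_mul, map_inv, map_inv, hy, hdd, hYi]
    exact eq_inv_of_mul_eq_one_left hR.yd
  have hwf : w * f * w⁻¹ = f⁻¹ := by
    refine odd_unique hd o7 ?_ (by rw [conj_pow', hf7]; group) hf7i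
    rw [map_mul, map_mul, map_inv, map_inv, hw, hf, hWi]
    exact eq_inv_of_mul_eq_one_left hR.wf
  have hds : s * d = d * s := by
    refine comm_odd hd o3 ?_ hd3
    rw [hs, hdd]
    calc S * D = (D * S * D⁻¹ * S⁻¹)⁻¹ * (D * S) := by group
      _ = D * S := by rw [hR.ds]; group
  have hdw : w * d = d * w := by
    refine comm_odd hd o3 ?_ hd3
    rw [hw, hdd]
    calc W * D = 1 * (W⁻¹ * D) := by rw [hWi, one_mul]
      _ = (D * W * D⁻¹ * W) * (W⁻¹ * D) := by rw [hR.dw]
      _ = D * W := by group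
  have hdf : d⁻¹ * f * d = f * f * f * f := by
    refine odd_unique hd o7 ?_ ?_ ?_
    · simp only [map_mul, map_inv, hdd, hf]
      calc D⁻¹ * F * D = (D⁻¹ * F * D * F⁻¹ * F⁻¹ * F⁻¹ * F⁻¹) * (F * F * F * F) := by group
        _ = F * F * F * F := by rw [hR.df, one_mul]
    · have := conj_pow' d⁻¹ f 7
      rw [inv_inv, hf7] at this
      rw [this]; group
    · have e : f * f * f * f = f ^ 4 := by simp only [pow_succ, pow_zero, one_mul]
      rw [e, ← pow_mul, mul_comm 4 7, pow_mul, hf7, one_pow]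
  refine ⟨t, s, w, f, d, y, ht, hs, hw, hf, hdd, hy, ?_⟩
  exact
    { s4 := hs4
      w2 := hw2
      f7 := hf7'
      wf := by
        calc w * f * w * f = (w * f * w⁻¹) * (w * w) * f := by group
          _ = 1 := by rw [hwf, hw2]; group
      ws := hws
      h1 := h1
      t2 := ht2
      d3 := hd3'
      td := htd
      ds := by rw [← hds]; group
      dw := by rw [← hdw, mul_inv_cancel_right, hw2]
      df := by rw [hdf]; group
      ts := by
        calc t * s * t * s⁻¹ = t * (s * t) * s⁻¹ := by group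
          _ = (t * t) * (s * s⁻¹) := by rw [← hts]; group
          _ = 1 := by rw [ht2]; group
      tw := by
        calc t * w * t * w = t * (w * t) * w := by group
          _ = (t * t) * (w * w) := by rw [← htw]; group
          _ = 1 := by rw [ht2, hw2, mul_one]
      tf := by
        calc t * f * t * f⁻¹ = t * (f * t) * f⁻¹ := by group
          _ = (t * t) * (f * f⁻¹) := by rw [← htf]; group
          _ = 1 := by rw [ht2]; group
      y2 := hy2
      yd := by
        calc y * d * y * d = (y * d * y⁻¹) * (y * y) * d := by group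
          _ = 1 := by rw [hyd, hy2]; group
      ty := hty
      ys := by
        calc y * s * y * s⁻¹ = (y * s) * y * s⁻¹ := by group
          _ = s * (y * y) * s⁻¹ := by rw [hys]; group
          _ = 1 := by rw [hy2]; group
      yw := by
        calc y * w * y * w = (y * w) * y * w := by group
          _ = w * (y * y) * w := by rw [hyw]; group
          _ = 1 := by rw [hy2, mul_one, hw2]
      h2 := one_or hd (by simp only [map_mul, map_inv, hs, hf]; exact hR.h2)
      h3 := one_or hd (by simp only [map_mul, map_inv, hs, hf]; exact hR.h3)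
      last := one_or hd (by simp only [map_mul, map_inv, hs, hf, hy]; exact hR.last)
      xt := one_or hd (by simp only [map_mul, map_inv, hs, hf, hy, ht]; exact hX.xt) }

end steps

end Cfsg.Agent.KFacts.MulRu.Near
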