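import Cfsg.Agent.KFacts.MulSpor.Class
import Cfsg.Agent.SporadicRecognition.CosetCertHyp

/-!
# Signs in double covers

`π : L → X` a perfect double cover with kernel `{1, c}`.

* `ev_sign`: changing letters by the sign `c`.
* `odd_lift`, `odd_unique`, `comm_odd`: lifts of odd order.
* `par_conj`: a relator whose value is central and whose letters are multiplied by signs under conjugation contains an
  even number of the sign-changed letters.
-/

set_option autoImplicit false

namespace Cfsg.Agent.KFacts.MulRu.Sign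

open Subgroup Cfsg.Agent.KFacts.MulTwo Cfsg.Agent.KFacts.MulDef Cfsg.Agent.KFacts.MulSpor.Class
open Cfsg.Agent.SporadicRecognition.CosetCert

section gen

variable {L : Type*} [Group L] {c : L}

/-- the sign -/
def sg (c : L) (b : Bool) : L := if b then c else 1

theorem sg_true : sg c true = c := rfl
theorem sg_false : sg c false = 1 := rfl

theorem sg_comm (hc : ∀ x : L, c * x = x * c) (b : Bool) (x : L) : sg c b * x = x * sg c b := by
  cases b
  · rw [sg_false, one_mul, mul_one]
  · exact hc x

theorem sg_mul (hs : c * c = 1) (a b : Bool) : sg c a * sg c b = sg c (xor a b) := by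
  cases a <;> cases b <;> simp [sg, hs]

theorem sg_eq_one (h1 : c ≠ 1) {b : Bool} (h : sg c b = 1) : b = false := by
  cases b
  · rfl
  · exact absurd h h1

/-- parity of the sign-changed letters -/
def par (b : ℕ → Bool) (w : List ℕ) : Bool := w.foldr (fun x a => xor (b x) a) false

theorem ev_sign (hc : ∀ x : L, c * x = x * c) (hs : c * c = 1) (g g' : ℕ → L) (b : ℕ → Bool) (w : List ℕ)
    (h : ∀ x ∈ w, g' x = sg c (b x) * g x) : ev g' w = sg c (par b w) * ev g w := by
  induction w with
  | nil => rw [ev_nil, ev_nil]; simp [par, sg]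
  | cons x w ih =>
    rw [ev_cons, ev_cons, h x (by simp), ih (fun y hy => h y (List.mem_cons_of_mem _ hy))]
    calc sg c (b x) * g x * (sg c (par b w) * ev g w) = sg c (b x) * (g x * sg c (par b w)) * ev g w := by group
      _ = sg c (b x) * (sg c (par b w) * g x) * ev g w := by rw [← sg_comm hc]
      _ = (sg c (b x) * sg c (par b w)) * (g x * ev g w) := by group
      _ = sg c (par b (x :: w)) * (g x * ev g w) := by rw [sg_mul hs]; rfl

theorem map_ev' {M : Type*} [Group M] (f : L →* M) (g : ℕ → L) (w : List ℕ) : f (ev g w) = ev (fun y => f (g y)) w := by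
  induction w with
  | nil => rw [ev_nil, ev_nil, map_one]
  | cons x w ih => rw [ev_cons, ev_cons, map_mul, ih]

theorem par_conj (hc : ∀ x : L, c * x = x * c) (hs : c * c = 1) (h1 : c ≠ 1) (g : ℕ → L) (b : ℕ → Bool) (w : List ℕ)
    (a : L) (h : ∀ x ∈ w, a * g x * a⁻¹ = sg c (b x) * g x) (hz : a * ev g w = ev g w * a) : par b w = false := by
  have e1 := map_ev' (MulAut.conj a).toMonoidHom g w
  have e2 := ev_sign hc hs g (fun y => (MulAut.conj a).toMonoidHom (g y)) b w (fun x hx => h x hx)
  rw [← e1] at e2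
  have e3 : (MulAut.conj a).toMonoidHom (ev g w) = ev g w := by
    show a * ev g w * a⁻¹ = ev g w
    rw [hz, mul_inv_cancel_right]
  rw [e3] at e2
  exact sg_eq_one h1 (mul_eq_right.1 e2.symm)

end gen

section cover

variable {L X : Type*} [Group L] [Group X] {π : L →* X} {c : L}

theorem one_or (hd : Dbl π c) {x : L} (h : π x = 1) : x = 1 ∨ x = c := (hd.ker x).1 h

theorem central (hd : Dbl π c) {x : L} (h : π x = 1) (y : L) : y * x = x * y := by
  rcases one_or hd h with rfl | rfl
  · rw [mul_one, one_mul]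
  · exact (hd.cen y).symm

theorem pow_c_odd (hd : Dbl π c) {n : ℕ} (hn : Odd n) : c ^ n = c := by
  obtain ⟨k, rfl⟩ := hn
  rw [pow_succ, pow_mul, pow_two, hd.sq, one_pow, one_mul]

theorem c_mul_pow (hd : Dbl π c) {n : ℕ} (hn : Odd n) (x : L) : (c * x) ^ n = c * x ^ n := by
  have h : Commute c x := hd.cen x
  rw [h.mul_pow, pow_c_odd hd hn]

/-- an element of odd order has a lift of odd order -/
theorem odd_lift (hd : Dbl π c) {n : ℕ} (hn : Odd n) {x : X} (hx : x ^ n = 1) : ∃ u : L, π u = x ∧ u ^ n = 1 := by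
  obtain ⟨u, rfl⟩ := hd.surj x
  rw [← map_pow] at hx
  rcases one_or hd hx with h | h
  · exact ⟨u, rfl, h⟩
  · refine ⟨c * u, by rw [map_mul, pi_c hd, one_mul], ?_⟩
    rw [c_mul_pow hd hn, h, hd.sq]

/-- the lift of odd order is unique -/
theorem odd_unique (hd : Dbl π c) {n : ℕ} (hn : Odd n) {u v : L} (h : π u = π v) (hu : u ^ n = 1) (hv : v ^ n = 1) :
    u = v := by
  rcases eq_or hd h with h1 | h1
  · exact h1
  · rw [h1, c_mul_pow hd hn, hv, mul_one] at hu
    exact absurd hu hd.ne

theorem conj_pow' {L : Type*} [Group L] (a u : L) (n : ℕ) : (a * u * a⁻¹) ^ n = a * u ^ n * a⁻¹ := by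
  induction n with
  | zero => simp
  | succ n ih => rw [pow_succ, ih, pow_succ]; group

theorem comm_odd (hd : Dbl π c) {n : ℕ} (hn : Odd n) {a u : L} (h : π a * π u = π u * π a) (hu : u ^ n = 1) :
    a * u = u * a := by
  have h1 : a * u * a⁻¹ = u := odd_unique hd hn (by rw [map_mul, map_mul, h, map_inv, mul_inv_cancel_right])
    (by rw [conj_pow', hu]; group) hu
  calc a * u = a * u * a⁻¹ * a := by group
    _ = u * a := by rw [h1]

/-- conjugation by `a` multiplies `x` by a sign if the images commute -/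
theorem conj_sg (hd : Dbl π c) {a x : L} (h : π a * π x = π x * π a) : ∃ b, a * x * a⁻¹ = sg c b * x := by
  have h1 : π (a * x * a⁻¹) = π x := by rw [map_mul, map_mul, h, map_inv, mul_inv_cancel_right]
  rcases eq_or hd h1 with h2 | h2
  · exact ⟨false, by rw [sg_false, one_mul]; exact h2⟩
  · exact ⟨true, h2⟩

theorem conj_of_comm {L : Type*} [Group L] {a x : L} (h : a * x = x * a) : a * x * a⁻¹ = x := by
  rw [h, mul_inv_cancel_right]

theorem comm_of_conj {L : Type*} [Group L] {a x : L} (h : a * x * a⁻¹ = x) : a * x = x * a := by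
  calc a * x = a * x * a⁻¹ * a := by group
    _ = x * a := by rw [h]

theorem sg_inv (hd : Dbl π c) (b : Bool) : (sg c b)⁻¹ = sg c b := by
  cases b
  · exact inv_one
  · exact inv_eq_of_mul_eq_one_left hd.sq

/-- conjugates of inverses -/
theorem conj_inv_sg (hd : Dbl π c) {a x : L} {b : Bool} (h : a * x * a⁻¹ = sg c b * x) :
    a * x⁻¹ * a⁻¹ = sg c b * x⁻¹ := by
  have h1 : a * x⁻¹ * a⁻¹ = (a * x * a⁻¹)⁻¹ := by group
  rw [h1, h, mul_inv_rev, sg_inv hd, sg_comm hd.cen]

end cover

end Cfsg.Agent.KFacts.MulRu.Sign
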