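import Cfsg.Agent.KFacts.MulRu.Sz01Data

set_option autoImplicit false
set_option maxRecDepth 100000

namespace Cfsg.Agent.KFacts.MulRu.Sz01Chk0

open Cfsg.Agent.SporadicRecognition.CosetCert Cfsg.Agent.Lib.CosetPartial Cfsg.Agent.KFacts.MulRu.Sz01Data

theorem c0 : PartP C 0 55 := runP_sound C (by decide +kernel : runP C 10 1023 0x268c0000400000000000208c0024c0100000008020000050c010000000400000000080000002000830080000400000000080138c00000130000000400000000000200002000010080058c0200000000000000000c016cd530000200000004020000000523000000080200002000020040000000000000000060c0000001000000008300800004000000000002004000000000000000010080000000000000000000000004020000030c00004000000000000000005cc0000001000000040000800000000000000000004000005300000000010000024c0000000004004cc00008000000000000004000000200000000010000000aa40000030c0000400008000000040c010000010c00000000040038c0000013000f300063004002cc020000200000000000040200000005130080010c0070c0200001008000000200002000000000000c01000000006328c000040200000000730040000002000000000234c00000010000000002004000080200000000020000000c010000000000008000040200000004000000010c1300000000010cc00008000000200002000000000100002000020080000400000000040000000008000000000002004000000274c0200001008000080200000000000040000000000000000108c0000800000000040038c0000013000000000200400008020000000001008000080274c0200002008000040278c00000000080000c010000000002008000040278c00000020140000802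 9 511 0x6580000000000000000000000000000000000000000000000000000000000000000000000000000000000000000000000 0 55 = true)

theorem all : PartP C 0 55 := c0

end Cfsg.Agent.KFacts.MulRu.Sz01Chk0
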