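import Cfsg.Agent.Lib.CosetPartial

set_option autoImplicit false
set_option maxRecDepth 100000

namespace Cfsg.Agent.KFacts.MulRu.Sz01Data

open Cfsg.Agent.SporadicRecognition.CosetCert

noncomputable def tree : Tr := (.N 32 (.N 16 (.L 0xffffffffffc845ffffffffffd2a443857fffffffffffffc7c52b53fff4c97fff4fffffff4993fff478fffffffffff1d143ffffffd0a1fffd0203e7ffff1b17fff1ffffffffffc5c4ffffffffffc687fffd7fffffffffffffce5b1513ffffffcdda3fffec0a3567fff1310cd8fffcc572f593fffffffffffffffff120fffffffffff3ffffffffffffff100c911fffca94fffd3ffffffffff0f0bfff6e9bffffffc64c5ffffffffffffff284c342fffc9922344ffffffffffffffc2c2203ffff1e3870d4fffec441833fff162c50afffc1c20a0c7fffb20fffffffffff1123fff09101410ffffffffffffff0e18305fffc0c108107fffb307ffffffc0810107fff060c102f) (.L 0xfffffffffffffffffcfcdfffffffa9dcffffffffffffffcf4dfffffffa2da9d34ffffffffffe130fffcf0cfffe575fffcfffffffffff86cceccfffffff91d3fff4ffffffffffce8bfffe2defffffff92d17ffffffe0b2fffdfb3382ffff62599573fffffff90d3fffffffffffffcd8b7dcc7ffffffffff342a31d7bcbfff71b7fff5fffebd879c7fff3229df0fffffff74b93ffffffdc2dffffffffffffff646cc0a0ffffffffffffff539d829fffcb8a636c7fffffffffffffd6aa2d27ffffffd7e23ffffffffffffff2c3db2cfffffff29203fffffffffffffda6c271bfff67ad66a3ffffffffffffff57a7ffffffd46725183fffffffffffffffff55a3fff22194271))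 (.N 48 (.L 0xfffffff857bfff7662073fffe72e9fbd3ffffffffffffffffffffffff9ec1d580fffebae9ad7fffaddfffffffdcd89dc07ffffffffff6f5e364fffffff89c9c995fffffff6b9bfff6d51a13ffffffffffce99fffffffffffffffa3dbffffffd9930ffffffffffffff5ca16d5fffd613fffc7fffffffffffffd856564bffffffffff3ffffffffffffff544576affffffffffd3ffffffffffffffffffffffff4f454921ffffffffffdaacfffd390ffffffffffcffffffffffffffffffa0bfffffffd2cf0ffffffffffd20efffe3adffffffffffd7fffffffffffffffff463bffffffd3653ffffffffffffff453bffffffd795fffd3ffffffffff4137fff96d7fff4443fff5) (.L 0x3fffffffffffffeaf6acbbfffa883fff1ffffffffffffffa4aeab7fffe96aa17c3ffffffffff9bba5e1fffffff98c651e0ffffffffffe3daffffffffffe4dcfffd7ffffffe1ddfffe0307f6ffff7c6bfff1ffffffffffe0db7a662b1fffffff88b53ffffffffff7863fffffffffffffe6755)))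

noncomputable def wtree : WT := (.N 15 (.N 7 (.N 3 (.N 1 (.L 1 [0,0,0]) (.N 2 (.L 0 [5,0,6]) (.L 3 [4,0,3,3,3,0,4,0]))) (.N 5 (.N 4 (.L 3 [4,4,1,3,3,1,3,1]) (.L 1 [5,1,6])) (.N 6 (.L 0 [3,0,4,1,1,3,1,4,1]) (.L 4 [1,4,0,0,3,0,4,0,0])))) (.N 11 (.N 9 (.N 8 (.L 4 [3,3,0,4,0,4,4,0]) (.L 4 [3,3,3,3,3,3])) (.N 10 (.L 1 [4,0,4,4,0,3,3,3]) (.L 3 [4,1,3,3,1,3,1,4]))) (.N 13 (.N 12 (.L 1 [3,3,3,0,4,0,4,4]) (.L 5 [3,5,4,4,4,4])) (.N 14 (.L 3 [4,4,4,4,4,4]) (.L 3 [5,3,3,3,3,6]))))) (.N 23 (.N 19 (.N 17 (.N 16 (.L 6 [4,4,4,4,6,3]) (.L 5 [4,5,3,3,3,3])) (.N 18 (.L 4 [5,4,4,4,4,6]) (.L 4 [1,4,4,4,1,3,3,1]))) (.N 21 (.N 20 (.L 3 [1,1,3,0,4,1,1,3,1]) (.L 1 [4,1,1,3,1,4,1,1,3])) (.N 22 (.L 6 [1,6,0]) (.L 1 [6,1,5])))) (.N 27 (.N 25 (.N 24 (.L 3 [0,4,4,0,3,3,3,0]) (.L 3 [0,0,3,0,4,0,0,3,1])) (.N 26 (.L 8 [1,1,1,1]) (.L 3 [4,4,4,6,3,5]))) (.N 29 (.N 28 (.L 7 [4,1,3,1,1,4,0,3,1,1])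 (.L 7 [0,7,1])) (.N 30 (.L 7 [3,7,4]) (.L 7 [1,7,0]))))))

noncomputable def stree : ST := (.L 3 [] [])

noncomputable def C : Cert where
  data := tree
  lm := 15
  rb := 130
  fb := 14
  mask := 16383
  B := 64
  k := 8
  N := 55
  inv := fun x => bif Nat.beq x 0 then 1 else bif Nat.beq x 1 then 0 else bif Nat.beq x 2 then 2 else bif Nat.beq x 3 then 4 else bif Nat.beq x 4 then 3 else bif Nat.beq x 5 then 6 else bif Nat.beq x 6 then 5 else bif Nat.beq x 7 then 7 else x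
  words := wtree
  subs := stree

/-- letters: 0 = s, 1 = S, 2 = w, 3 = f, 4 = F, 5 = d, 6 = D, 7 = c -/
def rels : List (List Nat) := [[5,5,5], [0,0,0,0], [2,3,2,3], [5,0,6,1], [5,2,6,2], [0,7,1,7], [2,7,2,7], [3,7,4,7], [5,7,6,7], [3,3,3,3,3,3,3], [1,1,2,0,2,1,2], [6,3,5,4,4,4,4], [4,4,4,1,3,3,1,3,1], [4,1,1,3,1,4,1,1,3,0], [4,1,3,1,1,4,0,3,1,1,7]]

def subw : List (List Nat) := [[3]]

/-- targets:  c -/
def targets : List (List Nat) := [[7]]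

end Cfsg.Agent.KFacts.MulRu.Sz01Data
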