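import Cfsg.Agent.KFacts.MulRu.Sz10Data

set_option autoImplicit false
set_option maxRecDepth 100000

namespace Cfsg.Agent.KFacts.MulRu.Sz10Chk0

open Cfsg.Agent.SporadicRecognition.CosetCert Cfsg.Agent.Lib.CosetPartial Cfsg.Agent.KFacts.MulRu.Sz10Data

theorem c0 : PartP C 0 64 := runP_sound C (by decide +kernel : runP C 10 1023 0x10000000001000000000200000000000040000800000000000250c000055300000001c300400008000000200000004000000000000000d30080000400000000000000400000000000000001008000080200000000004cc000040214c0038c02004000000014c0040c01000000000000000001f300400001630000000002004000000014c020000100000002130000038c00004000080018c00001a3004000000200000000000080000402000000000100800000020000000193008006cc010000000001000005cc0000000000020000010c010000000000000000040200000000020000000001008000000148c0000000000000000000400008000000000400008000000000000000012cc000080000000000000080000400000000000200400000000000000001000000000200000000c300400000000000000000000000040000000000023cc000000118c00000020040080c0200000000020000010c010000000000008000040220c0000400000000000000000000012cc000000000000000000000080c0104c000000200800005d30000000402000000000018c00000020040000002000000000100800008000000000400000000000200000000000040000002000000000100000008000000000400008000000000000000020040000000000020000100000000020000000002008000040000000000020040000000000000000128c000080020c000040044c000007318c0000002004000080214c0000001008000000004c0200002008000040200000004330080024c73008020000200800000010000200002008000040208c00000000080010c0104c000000200800004020040200003008000080200800000020140000802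 19 524287 0x2460000000000000000000000000000000000000000000000000000510570000000000820b80000 0 64 = true)

theorem c1 : PartP C 64 75 := runP_sound C (by decide +kernel : runP C 10 1023 0x4000000000000004000000000002000000080044c000000100000000d3008000040000002000010080010c02000000000078c0080c0100223000008cc0000402000000000100800001530000000002004005cc00000000000000000004020080060c010000024c02 19 524287 0 64 11 = true)

theorem all : PartP C 0 75 := (c0).append C c1

end Cfsg.Agent.KFacts.MulRu.Sz10Chk0
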