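import Cfsg.Agent.KFacts.MulRu.Sz11Data

set_option autoImplicit false
set_option maxRecDepth 100000

namespace Cfsg.Agent.KFacts.MulRu.Sz11Chk0

open Cfsg.Agent.SporadicRecognition.CosetCert Cfsg.Agent.Lib.CosetPartial Cfsg.Agent.KFacts.MulRu.Sz11Data

theorem c0 : PartP C 0 64 := runP_sound C (by decide +kernel : runP C 10 1023 0x40014c0200000000000000000402000020013300800004000000000002004000000000000000010080058c00000000000044c00004020080040c010000024c630080000000000003cc010080000000004000000000000000010000050c000000000001000000000020c000019300400001e3000000000000400000001cc0034c01000000000008c000000074c0038c0120c00001830040000000000000000200400000001cc020000100000001f3000006cc00004000080000000001730040058c02000000000000800004020000000001008000000200000001730080014c01000000000254c00004020000034c0100000000000000000123004000000000000000020000014c01000000000200000004020000000000004000080200000000020000014c01000000000000800004020000000400008000000000000000010000000800000000000200800000010000000000008000040004c00000000000000400000000000230c000000120c000000200400000000cc000040000000000001cc000000128c000000008c00000020000070c0104c00000020000000402000000040200000000000000000002004000000200000000010080000002000000040000000000020000000000004000080200000000012cc0000000000000000200400008020000200001008000080220c00000000040000000000000000100000008000000000400000000006320c000000200400000001cc000000100800000020000200002008000040200800004430080024c0000802000020080000001008000000200800004000cc0000400000000006308c00000000080014c0104c020000200800004020040200003008000080200800000020140000802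 21 2097151 0x11b0000000000000000000000000000000000000000000000000000000000000000000000000000000000000000000000000000000000000000000000000000000000000000000000000000000000000000000000007ed01c0000000000000000000000000000000000000000000000000000000000000000000000000000002e781c00000000000000000000000000000000000000000091c8e000000000000000020a2e00000 0 64 = true)

theorem c1 : PartP C 64 73 := runP_sound C (by decide +kernel : runP C 10 1023 0x4000000000000006130000000002000000000000800000010000000133008000040000002000010080014c02000000000268c0050c01002030000088c00004020000000001000000000200000000020040000000 21 2097151 0 64 9 = true)

theorem all : PartP C 0 73 := (c0).append C c1

end Cfsg.Agent.KFacts.MulRu.Sz11Chk0
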